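import Groth.Agent.SpTraceLib.Page
import Groth.Agent.SpPageLib.Basic

/-! Alternating sums of traces on the abutment of a spectral sequence of `ℂ[X]`-modules. -/

universe u

open CategoryTheory CategoryTheory.Limits

noncomputable section

namespace Groth.Agent.SpTraceLib

set_option linter.style.haveILetI false

theorem finite_of_shortExact {S : ShortComplex (ModuleCat.{u} (Polynomial ℂ))} (hS : S.ShortExact)
    [Module.Finite ℂ (V S.X₁)] [Module.Finite ℂ (V S.X₃)] : Module.Finite ℂ (V S.X₂) :=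
  haveI : IsNoetherian ℂ (V S.X₂) := isNoetherian_of_range_eq_ker (lmap S.f) (lmap S.g)
    (LinearMap.exact_iff.mp (show Function.Exact (lmap S.f) (lmap S.g) from
      (ShortComplex.ShortExact.moduleCat_exact_iff_function_exact S).mp hS.exact)).symm
  inferInstance

variable {Y : ModuleCat.{u} (Polynomial ℂ)} (F : ℤ → Subobject Y) (hF : Antitone F)

theorem tr_fil_succ (p : ℤ) [Module.Finite ℂ (V (F (p + 1) : ModuleCat.{u} (Polynomial ℂ)))]
    [Module.Finite ℂ (V (SpSeq.grPiece F hF p))] :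
    Module.Finite ℂ (V (F p : ModuleCat.{u} (Polynomial ℂ))) ∧
      tr (F p : ModuleCat.{u} (Polynomial ℂ)) =
        tr (F (p + 1) : ModuleCat.{u} (Polynomial ℂ)) + tr (SpSeq.grPiece F hF p) := by
  set h := hF (Int.le_add_one (le_refl p))
  let S := ShortComplex.mk ((F (p + 1)).ofLE (F p) h) (cokernel.π _) (cokernel.condition _)
  have hS : S.ShortExact :=
    ⟨ShortComplex.exact_of_g_is_cokernel _ (cokernelIsCokernel _)⟩
  haveI : Module.Finite ℂ (V S.X₁) :=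
    ‹Module.Finite ℂ (V (F (p + 1) : ModuleCat.{u} (Polynomial ℂ)))›
  haveI : Module.Finite ℂ (V S.X₃) := ‹Module.Finite ℂ (V (SpSeq.grPiece F hF p))›
  haveI h₂ := finite_of_shortExact hS
  exact ⟨h₂, tr_of_shortExact hS⟩

theorem tr_eq_tsum_gr (hfin : (∃ a, F a = ⊤) ∧ ∃ b, F b = ⊥)
    (hgr : ∀ p, Module.Finite ℂ (V (SpSeq.grPiece F hF p))) :
    tr Y = ∑' p : ℤ, tr (SpSeq.grPiece F hF p) := by
  obtain ⟨⟨a, ha⟩, b, hb⟩ := hfin
  have hz : IsZero (F b : ModuleCat.{u} (Polynomial ℂ)) :=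
    (isZero_zero _).of_iso (Subobject.isoOfEq _ _ hb ≪≫ Subobject.botCoeIsoZero)
  have hall : ∀ k : ℕ, Module.Finite ℂ (V (F (b - k) : ModuleCat.{u} (Polynomial ℂ))) ∧
      tr (F (b - k) : ModuleCat.{u} (Polynomial ℂ)) =
        ∑ i ∈ Finset.Ico (b - (k : ℤ)) b, tr (SpSeq.grPiece F hF i) := by
    intro k
    induction k with
    | zero =>
      rw [show b - ((0 : ℕ) : ℤ) = b by simp]
      haveI : Subsingleton (V (F b : ModuleCat.{u} (Polynomial ℂ))) :=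
        ModuleCat.subsingleton_of_isZero (M := (F b : ModuleCat.{u} (Polynomial ℂ))) hz
      exact ⟨inferInstance, by simp [tr_of_isZero hz]⟩
    | succ k ih =>
      have e : b - (k : ℤ) = (b - ((k + 1 : ℕ) : ℤ)) + 1 := by omega
      rw [e] at ih
      set p := b - ((k + 1 : ℕ) : ℤ) with hp
      haveI := ih.1
      haveI := hgr p
      obtain ⟨h₁, h₂⟩ := tr_fil_succ F hF p
      refine ⟨h₁, ?_⟩
      rw [h₂, ih.2, add_comm, ← Finset.sum_insert (f := fun i => tr (SpSeq.grPiece F hF i))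
        (by simp), Finset.insert_Ico_add_one_left_eq_Ico (by omega)]
  have htop : ∀ p, p ≤ a → F p = ⊤ := fun p hp => le_antisymm le_top (ha ▸ hF hp)
  have hbot : ∀ p, b ≤ p → F p = ⊥ := fun p hp => le_antisymm (hb ▸ hF hp) bot_le
  have hzero : ∀ p, F p = F (p + 1) → tr (SpSeq.grPiece F hF p) = 0 := fun p h => by
    refine tr_of_isZero ?_
    haveI : Epi ((F (p + 1)).ofLE (F p) (hF (Int.le_add_one le_rfl))) := by
      haveI : IsIso ((F (p + 1)).ofLE (F p) (hF (Int.le_add_one le_rfl))) :=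
        ⟨(F p).ofLE (F (p + 1)) h.le, by simp, by simp⟩
      infer_instance
    exact isZero_cokernel_of_epi _
  obtain ⟨k, hk⟩ : ∃ k : ℕ, b - (k : ℤ) = min a b := ⟨(b - min a b).toNat, by omega⟩
  haveI : IsIso (F (min a b)).arrow :=
    (Subobject.isIso_arrow_iff_eq_top _).mpr (htop _ (min_le_left _ _))
  have h := (hall k).2
  rw [hk] at h
  rw [← tr_of_iso (asIso (F (min a b)).arrow), h, tsum_eq_sum (L := SummationFilter.unconditional ℤ)]
  intro p hp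
  simp only [Finset.mem_Ico, not_and_or, not_le, not_lt] at hp
  apply hzero
  rcases hp with hp | hp
  · rw [htop p (by omega), htop (p + 1) (by omega)]
  · rw [hbot p hp, hbot (p + 1) (by omega)]

variable (E : E₂CohomologicalSpectralSequence (ModuleCat.{u} (Polynomial ℂ)))
variable {N : ℕ} {a c : ℕ → ℝ} {b d : ℕ → ℕ}

theorem bdd_iter (h : Bdd (E.page 2 le_rfl).X N a c b d) (ha : ∀ q, 0 ≤ a q) (hc : ∀ p, 0 ≤ c p)
    (hsum : Summable fun p : ℕ => c p * (d p : ℝ)) (r : ℤ) (hr : 2 ≤ r) :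
    Bdd (E.page r hr).X N a c b d ∧
      ∑' pq, sgn pq * tr ((E.page r hr).X pq) = ∑' pq, sgn pq * tr ((E.page 2 le_rfl).X pq) := by
  induction r, hr using Int.leInduction with
  | base => exact ⟨h, rfl⟩
  | succ r hr ih => exact ⟨bdd_succ E r hr ih.1, (tsum_succ E r hr ha hc hsum ih.1).trans ih.2⟩

theorem stationary (h₀ : ∀ pq : ℤ × ℤ, pq.1 < 0 ∨ pq.2 < 0 → IsZero ((E.page 2 le_rfl).X pq))
    (hN : ∀ p q : ℕ, N < q → IsZero ((E.page 2 le_rfl).X ((p : ℤ), (q : ℤ)))) (pq : ℤ × ℤ) :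
    SpSeq.StationaryAt E pq ((N : ℤ) + 2) := by
  refine ⟨by omega, fun r hr hr' => ?_⟩
  have hout : ∀ x : ℤ × ℤ, (x.2 < 0 ∨ (N : ℤ) < x.2) → IsZero ((E.page r hr).X x) := by
    intro x hx
    refine SpPageLib.isZero_later E 2 le_rfl x ?_ r hr
    by_cases hp : x.1 < 0 ∨ x.2 < 0
    · exact h₀ x hp
    · have hx' : x = ((x.1.toNat : ℤ), (x.2.toNat : ℤ)) := by ext <;> simp <;> omega
      rw [hx']
      exact hN _ _ (by omega)
  constructor
  · by_cases hq : pq.2 < 0 ∨ (N : ℤ) < pq.2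
    · exact (hout pq hq).eq_of_tgt _ _
    · refine (hout _ ?_).eq_of_src _ _
      simp only [Prod.snd_sub]
      omega
  · by_cases hq : pq.2 < 0 ∨ (N : ℤ) < pq.2
    · exact (hout pq hq).eq_of_src _ _
    · refine (hout _ ?_).eq_of_tgt _ _
      simp only [Prod.snd_add]
      omega

theorem nonempty_iso_gr (H : ℤ → ModuleCat.{u} (Polynomial ℂ)) (A : SpSeq.Abutment E H) (R : ℤ)
    (hR : 2 ≤ R) (hst : ∀ pq, SpSeq.StationaryAt E pq R) (n p : ℤ) :
    Nonempty ((E.page R hR).X (p, n - p) ≅ SpSeq.grPiece (A.fil n) (A.anti n) p) := by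
  obtain ⟨e₁⟩ := SpPageLib.stationary_iso' E (hst (p, n - p)) (le_max_left R (A.rk (p, n - p)))
  obtain ⟨e₂⟩ := SpPageLib.stationary_iso' E (A.stat (p, n - p))
    (le_max_right R (A.rk (p, n - p)))
  have e : p + (n - p) = n := by omega
  refine ⟨e₁.symm ≪≫ e₂ ≪≫ A.β (p, n - p) ≪≫ eqToIso ?_⟩
  show SpSeq.grPiece (A.fil (p + (n - p))) (A.anti _) p = _
  congr 1 <;> rw [e]

theorem tr_H_eq (H : ℤ → ModuleCat.{u} (Polynomial ℂ)) (A : SpSeq.Abutment E H) (R : ℤ)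
    (hR : 2 ≤ R) (hst : ∀ pq, SpSeq.StationaryAt E pq R)
    (hbR : Bdd (E.page R hR).X N a c b d) (n : ℤ) (hfin : A.IsFinite n) :
    tr (H n) = ∑' p : ℤ, tr ((E.page R hR).X (p, n - p)) := by
  rw [tr_eq_tsum_gr (A.fil n) (A.anti n) hfin fun p => ?_]
  · exact tsum_congr fun p => by
      obtain ⟨i⟩ := nonempty_iso_gr E H A R hR hst n p
      exact (tr_of_iso i).symm
  · obtain ⟨i⟩ := nonempty_iso_gr E H A R hR hst n p
    haveI := hbR.2.1 (p, n - p)
    exact finite_of_epi i.hom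

/-- The antidiagonal coordinates. -/
def diag : ℤ × ℤ ≃ ℤ × ℤ where
  toFun x := (x.2, x.1 - x.2)
  invFun y := (y.1 + y.2, y.1)
  left_inv x := by simp
  right_inv y := by simp

theorem regroup (t : ℤ × ℤ → ℂ) (h : ℤ → ℂ) (hn : Summable fun x => ‖sgn x * t x‖)
    (hz : ∀ x : ℤ × ℤ, x.1 < 0 ∨ x.2 < 0 → t x = 0)
    (hh : ∀ n, h n = ∑' p : ℤ, t (p, n - p)) :
    Summable (fun n : ℕ => ‖h n‖) ∧
      ∑' n : ℕ, (-1 : ℂ) ^ n * h n = ∑' x, sgn x * t x := by
  have hσ₁ : Summable (fun x : ℤ × ℤ => ‖sgn (diag x) * t (diag x)‖) :=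
    diag.summable_iff.mpr hn
  have hσ₂ : Summable (fun x : ℤ × ℤ => sgn (diag x) * t (diag x)) := hσ₁.of_norm
  have hterm : ∀ n : ℤ, (-1 : ℂ) ^ n * h n = ∑' p : ℤ, sgn (diag (n, p)) * t (diag (n, p)) := by
    intro n
    rw [hh, ← tsum_mul_left]
    refine tsum_congr fun p => ?_
    show (-1 : ℂ) ^ n * t (p, n - p) = (-1 : ℂ) ^ (p + (n - p)) * t (p, n - p)
    rw [show p + (n - p) = n by omega]
  have hsummable : Summable (fun n : ℤ => ‖(-1 : ℂ) ^ n * h n‖) := by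
    refine Summable.of_nonneg_of_le (fun _ => norm_nonneg _) (fun n => ?_) hσ₁.prod
    rw [hterm]
    exact norm_tsum_le_tsum_norm (hσ₁.prod_factor n)
  refine ⟨(hsummable.comp_injective Nat.cast_injective).congr fun n => by simp [norm_mul], ?_⟩
  rw [← diag.tsum_eq, hσ₂.tsum_prod]
  simp only [← hterm]
  refine Eq.trans (tsum_congr fun n => by rw [zpow_natCast])
    (Nat.cast_injective.tsum_eq (f := fun n : ℤ => (-1 : ℂ) ^ n * h n) fun x hx => ?_)
  by_contra hr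
  have hx0 : x < 0 := lt_of_not_ge fun hx0 => hr ⟨x.toNat, by simp [hx0]⟩
  refine hx ?_
  show (-1 : ℂ) ^ x * h x = 0
  rw [hh x]
  refine mul_eq_zero_of_right _ ((tsum_congr fun p => hz (p, x - p) ?_).trans tsum_zero)
  show p < 0 ∨ x - p < 0
  omega

theorem tsum_abutment (H : ℤ → ModuleCat.{u} (Polynomial ℂ)) (A : SpSeq.Abutment E H)
    (hfin : ∀ n, A.IsFinite n) (h : Bdd (E.page 2 le_rfl).X N a c b d)
    (ha : ∀ q, 0 ≤ a q) (hc : ∀ p, 0 ≤ c p) (hsum : Summable fun p : ℕ => c p * (d p : ℝ)) :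
    Summable (fun n : ℕ => ‖tr (H n)‖) ∧
      ∑' n : ℕ, (-1 : ℂ) ^ n * tr (H n) =
        ∑' pq : ℕ × ℕ, (-1 : ℂ) ^ (pq.1 + pq.2) *
          tr ((E.page 2 le_rfl).X ((pq.1 : ℤ), (pq.2 : ℤ))) := by
  have hR : (2 : ℤ) ≤ (N : ℤ) + 2 := by omega
  obtain ⟨hbR, hsR⟩ := bdd_iter E h ha hc hsum _ hR
  have hst := stationary E h.1 h.2.2.1
  have hn := (summable_tr ha hc hsum hbR).1
  have hz : ∀ x : ℤ × ℤ, x.1 < 0 ∨ x.2 < 0 → tr ((E.page ((N : ℤ) + 2) hR).X x) = 0 :=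
    fun x hx => tr_of_isZero (hbR.1 x hx)
  obtain ⟨h₁, h₂⟩ := regroup (fun x => tr ((E.page ((N : ℤ) + 2) hR).X x)) (fun n => tr (H n))
    hn hz (fun n => tr_H_eq E H A _ hR hst hbR n (hfin n))
  exact ⟨h₁, h₂.trans (hsR.trans (summable_tr ha hc hsum h).2.2.symm)⟩

end Groth.Agent.SpTraceLib
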