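import Groth.Agent.SpTraceLib.Trace
import Groth.Prelude.Def_SpSeq

/-! Alternating sums of traces on the pages of a spectral sequence of `ℂ[X]`-modules. -/

universe u

open CategoryTheory CategoryTheory.Limits

noncomputable section

namespace Groth.Agent.SpTraceLib

set_option linter.style.haveILetI false

variable {e : ℤ × ℤ} (K : HomologicalComplex (ModuleCat.{u} (Polynomial ℂ)) (ComplexShape.up' e))

theorem prev_eq (j : ℤ × ℤ) : (ComplexShape.up' e).prev j = j - e :=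
  ComplexShape.prev_eq' _ (show j - e + e = j from sub_add_cancel _ _)

theorem next_eq (j : ℤ × ℤ) : (ComplexShape.up' e).next j = j + e :=
  ComplexShape.next_eq' _ rfl

/-- The trace on the image of a differential. -/
def β (i j : ℤ × ℤ) : ℂ := tr (Abelian.image (K.d i j))

instance mono_image_ι (i j : ℤ × ℤ) : Mono (Abelian.image.ι (K.d i j)) := inferInstance

theorem tr_X (i : ℤ × ℤ) [Module.Finite ℂ (V (K.X i))] :
    tr (K.X i) = tr (K.cycles i) + β K i (i + e) := by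
  have w : K.iCycles i ≫ Abelian.factorThruImage (K.d i (i + e)) = 0 := by
    rw [← cancel_mono (Abelian.image.ι (K.d i (i + e))), Category.assoc, Abelian.image.fac,
      HomologicalComplex.iCycles_d, zero_comp]
  refine tr_of_shortExact (S := ShortComplex.mk _ _ w) (hS := ⟨?_⟩)
  rw [ShortComplex.exact_iff_exact_up_to_refinements]
  intro T t ht
  have h0 : t ≫ K.d i (i + e) = 0 := by
    have h1 := congrArg (· ≫ Abelian.image.ι (K.d i (i + e))) ht
    simp only [zero_comp] at h1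
    exact (Eq.trans (by simp only [Category.assoc, Abelian.image.fac]) h1)
  exact ⟨T, 𝟙 T, inferInstance, K.liftCycles t (i + e) (next_eq i) h0, by
    rw [Category.id_comp, HomologicalComplex.liftCycles_i]⟩

theorem tr_cycles (j : ℤ × ℤ) [Module.Finite ℂ (V (K.X j))] :
    tr (K.cycles j) = β K (j - e) j + tr (K.homology j) := by
  haveI := finite_of_mono (K.iCycles j)
  have hd : Abelian.image.ι (K.d (j - e) j) ≫ K.d j (j + e) = 0 := by
    rw [← cancel_epi (Abelian.factorThruImage (K.d (j - e) j)), ← Category.assoc, Abelian.image.fac,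
      K.d_comp_d, comp_zero]
  set l := K.liftCycles (Abelian.image.ι (K.d (j - e) j)) (j + e) (next_eq j) hd
  have hl : Abelian.factorThruImage (K.d (j - e) j) ≫ l = K.toCycles (j - e) j := by
    rw [← cancel_mono (K.iCycles j), Category.assoc, HomologicalComplex.liftCycles_i,
      Abelian.image.fac, HomologicalComplex.toCycles_i]
  haveI : Mono l := mono_of_mono_fac (K.liftCycles_i _ _ _ hd)
  have w : l ≫ K.homologyπ j = 0 := by
    rw [← cancel_epi (Abelian.factorThruImage (K.d (j - e) j)), ← Category.assoc, hl,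
      HomologicalComplex.toCycles_comp_homologyπ, comp_zero]
  refine tr_of_shortExact (S := ShortComplex.mk _ _ w) (hS := ⟨?_⟩)
  rw [ShortComplex.exact_iff_exact_up_to_refinements]
  intro T t ht
  obtain ⟨T', π, _, x, hx⟩ := (K.comp_homologyπ_eq_zero_iff_up_to_refinements (j - e) j
    (prev_eq j) t).mp ht
  exact ⟨T', π, inferInstance, x ≫ Abelian.factorThruImage (K.d (j - e) j), by
    rw [Category.assoc, hl]; exact hx⟩

theorem tr_homology (j : ℤ × ℤ) [Module.Finite ℂ (V (K.X j))] :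
    tr (K.homology j) = tr (K.X j) - β K j (j + e) - β K (j - e) j := by
  rw [tr_X K j, tr_cycles K j]
  ring

theorem homology_bounds (j : ℤ × ℤ) [Module.Finite ℂ (V (K.X j))] :
    Module.Finite ℂ (V (K.homology j)) ∧
      Module.finrank ℂ (V (K.homology j)) ≤ Module.finrank ℂ (V (K.X j)) ∧
      ∀ μ : ℂ, Module.End.HasEigenvalue (op (K.homology j)) μ →
        Module.End.HasEigenvalue (op (K.X j)) μ := by
  haveI := finite_of_mono (K.iCycles j)
  exact ⟨finite_of_epi (K.homologyπ j),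
    (finrank_le_of_epi (K.homologyπ j)).trans (finrank_le_of_mono (K.iCycles j)),
    fun μ h => eigen_of_mono (K.iCycles j) (eigen_of_epi (K.homologyπ j) h)⟩

/-! ### Bounded families -/

/-- The boundedness condition on the terms of a page. -/
def Bdd (M : ℤ × ℤ → ModuleCat.{u} (Polynomial ℂ)) (N : ℕ) (a c : ℕ → ℝ) (b d : ℕ → ℕ) : Prop :=
  (∀ pq : ℤ × ℤ, pq.1 < 0 ∨ pq.2 < 0 → IsZero (M pq)) ∧
    (∀ pq : ℤ × ℤ, Module.Finite ℂ (V (M pq))) ∧
    (∀ p q : ℕ, N < q → IsZero (M ((p : ℤ), (q : ℤ)))) ∧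
    (∀ (p q : ℕ) (μ : ℂ), Module.End.HasEigenvalue (op (M ((p : ℤ), (q : ℤ)))) μ →
      ‖μ‖ ≤ a q * c p) ∧
    (∀ p q : ℕ, Module.finrank ℂ (V (M ((p : ℤ), (q : ℤ)))) ≤ b q * d p)

/-- The sign. -/
def sgn (pq : ℤ × ℤ) : ℂ := (-1 : ℂ) ^ (pq.1 + pq.2)

theorem norm_sgn (pq : ℤ × ℤ) : ‖sgn pq‖ = 1 := by simp [sgn]

theorem sgn_natCast (p q : ℕ) : sgn ((p : ℤ), (q : ℤ)) = (-1 : ℂ) ^ (p + q) := by
  rw [sgn, show ((p : ℤ), (q : ℤ)).1 + ((p : ℤ), (q : ℤ)).2 = ((p + q : ℕ) : ℤ) by push_cast; rfl,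
    zpow_natCast]

variable {N : ℕ} {a c : ℕ → ℝ} {b d : ℕ → ℕ}

/-- A family bounded by a bounded family is absolutely summable. -/
theorem summable_of_bound (ha : ∀ q, 0 ≤ a q) (hc : ∀ p, 0 ≤ c p)
    (hsum : Summable fun p : ℕ => c p * (d p : ℝ)) (g : ℤ × ℤ → ℂ)
    (hneg : ∀ pq : ℤ × ℤ, pq.1 < 0 ∨ pq.2 < 0 → g pq = 0)
    (hN : ∀ p q : ℕ, N < q → g ((p : ℤ), (q : ℤ)) = 0)
    (hb : ∀ p q : ℕ, ‖g ((p : ℤ), (q : ℤ))‖ ≤ a q * c p * ((b q * d p : ℕ) : ℝ)) :
    Summable (fun pq => ‖g pq‖) ∧ Summable g ∧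
      ∑' pq : ℕ × ℕ, g ((pq.1 : ℤ), (pq.2 : ℤ)) = ∑' pq, g pq := by
  have hinj : Function.Injective (fun pq : ℕ × ℕ => ((pq.1 : ℤ), (pq.2 : ℤ))) := fun x y h => by
    simp only [Prod.mk.injEq, Nat.cast_inj] at h
    exact Prod.ext h.1 h.2
  have hsupp : ∀ x, x ∉ Set.range (fun pq : ℕ × ℕ => ((pq.1 : ℤ), (pq.2 : ℤ))) → g x = 0 := by
    intro x hx
    apply hneg
    by_contra h
    exact hx ⟨(x.1.toNat, x.2.toNat), by ext <;> simp <;> omega⟩
  let f₂ : ℕ → ℝ := fun q => if q ≤ N then a q * (b q : ℝ) else 0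
  have hf₂ : Summable f₂ := summable_of_ne_finset_zero (s := Finset.range (N + 1)) fun q hq => by
    simp only [Finset.mem_range] at hq
    simp only [f₂]
    rw [if_neg (by omega)]
  have hf₂0 : ∀ q, 0 ≤ f₂ q := fun q => by
    simp only [f₂]
    split_ifs
    · exact mul_nonneg (ha q) (Nat.cast_nonneg _)
    · rfl
  have hprod := hsum.mul_of_nonneg hf₂ (fun p => mul_nonneg (hc p) (Nat.cast_nonneg _)) hf₂0
  have h1 : Summable (fun pq : ℕ × ℕ => ‖g ((pq.1 : ℤ), (pq.2 : ℤ))‖) := by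
    refine Summable.of_nonneg_of_le (fun _ => norm_nonneg _) (fun pq => ?_) hprod
    by_cases hq : pq.2 ≤ N
    · simp only [f₂, if_pos hq]
      refine (hb pq.1 pq.2).trans_eq ?_
      push_cast
      ring
    · rw [hN _ _ (not_le.mp hq), norm_zero]
      exact mul_nonneg (mul_nonneg (hc _) (Nat.cast_nonneg _)) (hf₂0 _)
  have h2 : Summable (fun pq => ‖g pq‖) :=
    (hinj.summable_iff fun x hx => by rw [hsupp x hx, norm_zero]).mp h1
  refine ⟨h2, h2.of_norm, ?_⟩
  exact hinj.tsum_eq (f := g) fun x hx => by_contra fun h => hx (hsupp x h)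

theorem summable_tr {M : ℤ × ℤ → ModuleCat.{u} (Polynomial ℂ)} (ha : ∀ q, 0 ≤ a q)
    (hc : ∀ p, 0 ≤ c p) (hsum : Summable fun p : ℕ => c p * (d p : ℝ)) (hM : Bdd M N a c b d) :
    Summable (fun pq => ‖sgn pq * tr (M pq)‖) ∧ Summable (fun pq => sgn pq * tr (M pq)) ∧
      ∑' pq : ℕ × ℕ, (-1 : ℂ) ^ (pq.1 + pq.2) * tr (M ((pq.1 : ℤ), (pq.2 : ℤ))) =
        ∑' pq, sgn pq * tr (M pq) := by
  obtain ⟨h₀, hfin, hN, hμ, hdim⟩ := hM
  have := summable_of_bound (b := b) ha hc hsum (fun pq => sgn pq * tr (M pq))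
    (fun pq h => by rw [tr_of_isZero (h₀ pq h), mul_zero])
    (fun p q h => by rw [tr_of_isZero (hN p q h), mul_zero])
    (fun p q => by
      haveI := hfin ((p : ℤ), (q : ℤ))
      rw [norm_mul, norm_sgn, one_mul]
      exact norm_tr_le _ _ (mul_nonneg (ha q) (hc p)) (hμ p q) (hdim p q))
  simpa only [sgn_natCast] using this

theorem homology_bdd (hM : Bdd K.X N a c b d) : Bdd (fun j => K.homology j) N a c b d := by
  obtain ⟨h₀, hfin, hN, hμ, hdim⟩ := hM
  refine ⟨fun pq h => (HomologicalComplex.ExactAt.of_isZero (h₀ pq h)).isZero_homology,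
    fun pq => ?_, fun p q h => (HomologicalComplex.ExactAt.of_isZero (hN p q h)).isZero_homology,
    fun p q μ h => ?_, fun p q => ?_⟩
  · haveI := hfin pq
    exact (homology_bounds K pq).1
  · haveI := hfin ((p : ℤ), (q : ℤ))
    exact hμ p q μ ((homology_bounds K _).2.2 μ h)
  · haveI := hfin ((p : ℤ), (q : ℤ))
    exact (homology_bounds K _).2.1.trans (hdim p q)

/-- The signed trace on the image of the differential out of `pq`. -/
def sβ (pq : ℤ × ℤ) : ℂ := sgn pq * β K pq (pq + e)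

theorem β_eq_zero (i j : ℤ × ℤ) (h : IsZero (K.X i)) : β K i j = 0 :=
  tr_of_isZero (IsZero.of_epi (Abelian.factorThruImage (K.d i j)) h)

theorem norm_β_le (i j : ℤ × ℤ) [Module.Finite ℂ (V (K.X i))] (C : ℝ) (D : ℕ) (hC : 0 ≤ C)
    (hμ : ∀ μ : ℂ, Module.End.HasEigenvalue (op (K.X i)) μ → ‖μ‖ ≤ C)
    (hD : Module.finrank ℂ (V (K.X i)) ≤ D) : ‖β K i j‖ ≤ C * D :=
  haveI := finite_of_epi (Abelian.factorThruImage (K.d i j))
  norm_tr_le C D hC (fun μ h => hμ μ (eigen_of_epi (Abelian.factorThruImage (K.d i j)) h))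
    ((finrank_le_of_epi (Abelian.factorThruImage (K.d i j))).trans hD)

theorem summable_sβ (ha : ∀ q, 0 ≤ a q) (hc : ∀ p, 0 ≤ c p)
    (hsum : Summable fun p : ℕ => c p * (d p : ℝ)) (hM : Bdd K.X N a c b d) :
    Summable (sβ K) := by
  obtain ⟨h₀, hfin, hN, hμ, hdim⟩ := hM
  refine (summable_of_bound (N := N) (b := b) ha hc hsum (sβ K) (fun pq h => ?_)
    (fun p q h => ?_) (fun p q => ?_)).2.1
  · rw [sβ, β_eq_zero K _ _ (h₀ pq h), mul_zero]
  · rw [sβ, β_eq_zero K _ _ (hN p q h), mul_zero]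
  · haveI := hfin ((p : ℤ), (q : ℤ))
    rw [sβ, norm_mul, norm_sgn, one_mul]
    exact norm_β_le K _ _ _ _ (mul_nonneg (ha q) (hc p)) (hμ p q) (hdim p q)

theorem key_homology (he : e.1 + e.2 = 1) (pq : ℤ × ℤ) [Module.Finite ℂ (V (K.X pq))] :
    sgn pq * tr (K.homology pq) = sgn pq * tr (K.X pq) - sβ K pq + sβ K (pq - e) := by
  have hsgn : sgn (pq - e) = -sgn pq := by
    simp only [sgn]
    rw [show (pq - e).1 + (pq - e).2 = pq.1 + pq.2 - 1 by
      simp only [Prod.fst_sub, Prod.snd_sub]; omega, zpow_sub_one₀ (by norm_num)]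
    norm_num
  rw [sβ, sβ, tr_homology K pq, hsgn, sub_add_cancel]
  ring

theorem tsum_cancel {ι : Type*} (f g h : ι → ℂ) (σ : ι ≃ ι) (hf : Summable f) (hg : Summable g)
    (hh : ∀ x, h x = f x - g x + g (σ x)) : ∑' x, h x = ∑' x, f x := by
  have hs : Summable (fun x => g (σ x)) := σ.summable_iff.mpr hg
  rw [tsum_congr hh, (hf.sub hg).tsum_add hs, hf.tsum_sub hg, σ.tsum_eq g, sub_add_cancel]

theorem tsum_homology (he : e.1 + e.2 = 1) (ha : ∀ q, 0 ≤ a q) (hc : ∀ p, 0 ≤ c p)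
    (hsum : Summable fun p : ℕ => c p * (d p : ℝ)) (hM : Bdd K.X N a c b d) :
    ∑' pq, sgn pq * tr (K.homology pq) = ∑' pq, sgn pq * tr (K.X pq) := by
  have hG := summable_sβ K ha hc hsum hM
  have hX := (summable_tr ha hc hsum hM).2.1
  have key : ∀ pq, sgn pq * tr (K.homology pq) =
      sgn pq * tr (K.X pq) - sβ K pq + sβ K (Equiv.subRight e pq) := fun pq => by
    haveI := hM.2.1 pq
    exact key_homology K he pq
  exact tsum_cancel _ _ _ (Equiv.subRight e) hX hG key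

/-! ### Pages -/

variable (E : E₂CohomologicalSpectralSequence (ModuleCat.{u} (Polynomial ℂ)))

theorem bdd_succ (r : ℤ) (hr : 2 ≤ r) (h : Bdd (E.page r hr).X N a c b d) :
    Bdd (E.page (r + 1) (Int.le_add_one hr)).X N a c b d := by
  obtain ⟨h₀, hfin, hN, hμ, hdim⟩ := homology_bdd _ h
  refine ⟨fun pq hpq => (h₀ pq hpq).of_iso (E.iso r (r + 1) pq rfl hr).symm, fun pq => ?_,
    fun p q hq => (hN p q hq).of_iso (E.iso r (r + 1) _ rfl hr).symm, fun p q μ hm => ?_,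
    fun p q => ?_⟩
  · haveI := hfin pq
    exact finite_of_epi (E.iso r (r + 1) pq rfl hr).hom
  · exact hμ p q μ (eigen_of_mono (E.iso r (r + 1) _ rfl hr).inv hm)
  · haveI := hfin ((p : ℤ), (q : ℤ))
    exact (finrank_le_of_epi (E.iso r (r + 1) _ rfl hr).hom).trans (hdim p q)

theorem tsum_succ (r : ℤ) (hr : 2 ≤ r) (ha : ∀ q, 0 ≤ a q) (hc : ∀ p, 0 ≤ c p)
    (hsum : Summable fun p : ℕ => c p * (d p : ℝ)) (h : Bdd (E.page r hr).X N a c b d) :
    ∑' pq, sgn pq * tr ((E.page (r + 1) (Int.le_add_one hr)).X pq) =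
      ∑' pq, sgn pq * tr ((E.page r hr).X pq) := by
  rw [← tsum_homology (E.page r hr) (show r + (1 - r) = 1 by omega) ha hc hsum h]
  exact tsum_congr fun pq => by rw [tr_of_iso (E.iso r (r + 1) pq rfl hr)]

end Groth.Agent.SpTraceLib
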