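import Mathlib

/-! Traces of `X` on finite dimensional `ℂ[X]`-modules. -/

universe u

open CategoryTheory CategoryTheory.Limits Polynomial

noncomputable section

namespace Groth.Agent.SpTraceLib

set_option linter.style.haveILetI false

/-- The underlying complex vector space. -/
abbrev V (M : ModuleCat.{u} (Polynomial ℂ)) : ModuleCat.{u} ℂ :=
  (ModuleCat.restrictScalars (algebraMap ℂ (Polynomial ℂ))).obj M

/-- The action of `X`. -/
abbrev op (M : ModuleCat.{u} (Polynomial ℂ)) : V M →ₗ[ℂ] V M :=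
  ((ModuleCat.restrictScalars (algebraMap ℂ (Polynomial ℂ))).map
    ((Polynomial.X : Polynomial ℂ) • 𝟙 M)).hom

/-- The trace of `X`. -/
abbrev tr (M : ModuleCat.{u} (Polynomial ℂ)) : ℂ := LinearMap.trace ℂ _ (op M)

variable {M N : ModuleCat.{u} (Polynomial ℂ)}

/-- The underlying linear map. -/
abbrev lmap (f : M ⟶ N) : V M →ₗ[ℂ] V N :=
  ((ModuleCat.restrictScalars (algebraMap ℂ (Polynomial ℂ))).map f).hom

theorem op_lmap (f : M ⟶ N) : op N ∘ₗ lmap f = lmap f ∘ₗ op M := by
  have h : f ≫ ((Polynomial.X : Polynomial ℂ) • 𝟙 N) = ((Polynomial.X : Polynomial ℂ) • 𝟙 M) ≫ f := by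
    simp
  have := congrArg (fun g => ((ModuleCat.restrictScalars (algebraMap ℂ (Polynomial ℂ))).map g).hom) h
  simpa only [Functor.map_comp, ModuleCat.hom_comp] using this

theorem lmap_injective (f : M ⟶ N) [Mono f] : Function.Injective (lmap f) :=
  (ModuleCat.mono_iff_injective f).mp inferInstance

theorem lmap_surjective (f : M ⟶ N) [Epi f] : Function.Surjective (lmap f) :=
  (ModuleCat.epi_iff_surjective f).mp inferInstance

theorem finite_of_mono (f : M ⟶ N) [Mono f] [Module.Finite ℂ (V N)] : Module.Finite ℂ (V M) :=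
  Module.Finite.of_injective (lmap f) (lmap_injective f)

theorem finite_of_epi (f : M ⟶ N) [Epi f] [Module.Finite ℂ (V M)] : Module.Finite ℂ (V N) :=
  Module.Finite.of_surjective (lmap f) (lmap_surjective f)

theorem finrank_le_of_mono (f : M ⟶ N) [Mono f] [Module.Finite ℂ (V N)] :
    Module.finrank ℂ (V M) ≤ Module.finrank ℂ (V N) :=
  LinearMap.finrank_le_finrank_of_injective (lmap_injective f)

theorem finrank_le_of_epi (f : M ⟶ N) [Epi f] [Module.Finite ℂ (V M)] :
    Module.finrank ℂ (V N) ≤ Module.finrank ℂ (V M) :=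
  LinearMap.finrank_le_finrank_of_surjective (lmap_surjective f)

theorem eigen_of_mono (f : M ⟶ N) [Mono f] {μ : ℂ} (h : Module.End.HasEigenvalue (op M) μ) :
    Module.End.HasEigenvalue (op N) μ := by
  obtain ⟨v, hv⟩ := h.exists_hasEigenvector
  refine Module.End.hasEigenvalue_of_hasEigenvector (f := op N) (x := lmap f v) ⟨?_, fun h0 => hv.2 ?_⟩
  · rw [Module.End.mem_eigenspace_iff, ← LinearMap.comp_apply (op N), op_lmap, LinearMap.comp_apply,
      hv.apply_eq_smul, map_smul]
  · exact lmap_injective f (h0.trans (map_zero _).symm)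

theorem eigen_of_epi (f : M ⟶ N) [Epi f] [Module.Finite ℂ (V M)] {μ : ℂ}
    (h : Module.End.HasEigenvalue (op N) μ) : Module.End.HasEigenvalue (op M) μ := by
  haveI := finite_of_epi f
  by_contra hne
  have hinj : Function.Injective (⇑(op M - μ • (1 : Module.End ℂ (V M)))) := by
    rw [← LinearMap.ker_eq_bot]
    rw [Module.End.hasEigenvalue_iff, not_not, Module.End.eigenspace_def] at hne
    exact hne
  have hsurj := LinearMap.injective_iff_surjective.mp hinj
  have hsN : Function.Surjective (⇑(op N - μ • (1 : Module.End ℂ (V N)))) := by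
    intro y
    obtain ⟨x, rfl⟩ := lmap_surjective f y
    obtain ⟨z, rfl⟩ := hsurj x
    refine ⟨lmap f z, ?_⟩
    simp only [LinearMap.sub_apply, LinearMap.smul_apply, Module.End.one_apply, map_sub, map_smul]
    congr 1
    exact LinearMap.congr_fun (op_lmap f) z
  obtain ⟨v, hv⟩ := h.exists_hasEigenvector
  refine hv.2 (LinearMap.injective_iff_surjective.mpr hsN ?_)
  rw [LinearMap.sub_apply, LinearMap.smul_apply, Module.End.one_apply, hv.apply_eq_smul, sub_self,
    map_zero]

theorem trace_add_of_exact {k U V W : Type*} [Field k] [AddCommGroup U] [Module k U]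
    [AddCommGroup V] [Module k V] [AddCommGroup W] [Module k W] [FiniteDimensional k V]
    (i : U →ₗ[k] V) (g : V →ₗ[k] W) (hi : Function.Injective i) (hg : Function.Surjective g)
    (hex : Function.Exact i g) (fU : U →ₗ[k] U) (f : V →ₗ[k] V) (fW : W →ₗ[k] W)
    (h1 : f ∘ₗ i = i ∘ₗ fU) (h2 : g ∘ₗ f = fW ∘ₗ g) :
    LinearMap.trace k V f = LinearMap.trace k U fU + LinearMap.trace k W fW := by
  haveI : FiniteDimensional k U := FiniteDimensional.of_injective i hi
  haveI : FiniteDimensional k W := Module.Finite.of_surjective g hg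
  obtain ⟨s, hs⟩ := g.exists_rightInverse_of_surjective (LinearMap.range_eq_top.2 hg)
  obtain ⟨r, hr⟩ := i.exists_leftInverse_of_injective (LinearMap.ker_eq_bot.2 hi)
  obtain ⟨r', hr'⟩ : ∃ r' : V →ₗ[k] U, r' = r ∘ₗ (LinearMap.id - s ∘ₗ g) := ⟨_, rfl⟩
  have hsum : i ∘ₗ r' + s ∘ₗ g = LinearMap.id := by
    refine LinearMap.ext fun v => ?_
    have hk : g (v - s (g v)) = 0 := by
      rw [map_sub, ← LinearMap.comp_apply g s, hs, LinearMap.id_apply, sub_self]
    obtain ⟨u, hu⟩ := (hex _).1 hk
    rw [hr']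
    show i (r (v - s (g v))) + s (g v) = v
    rw [← hu, ← LinearMap.comp_apply r i, hr, LinearMap.id_apply, hu, sub_add_cancel]
  have hri : r' ∘ₗ i = LinearMap.id := by
    refine LinearMap.ext fun u => ?_
    rw [hr']
    show r (i u - s (g (i u))) = u
    rw [hex.apply_apply_eq_zero, map_zero, sub_zero, ← LinearMap.comp_apply r i, hr,
      LinearMap.id_apply]
  calc LinearMap.trace k V f = LinearMap.trace k V (f ∘ₗ (i ∘ₗ r' + s ∘ₗ g)) := by
        rw [hsum, LinearMap.comp_id]
    _ = LinearMap.trace k V ((f ∘ₗ i) ∘ₗ r') + LinearMap.trace k V ((f ∘ₗ s) ∘ₗ g) := by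
      rw [LinearMap.comp_add, map_add, LinearMap.comp_assoc, LinearMap.comp_assoc]
    _ = _ := by
      rw [LinearMap.trace_comp_comm' r' (f ∘ₗ i), LinearMap.trace_comp_comm' g (f ∘ₗ s), h1,
        ← LinearMap.comp_assoc, hri, LinearMap.id_comp, ← LinearMap.comp_assoc, h2,
        LinearMap.comp_assoc, hs, LinearMap.comp_id]

theorem tr_of_shortExact {S : ShortComplex (ModuleCat.{u} (Polynomial ℂ))} (hS : S.ShortExact)
    [Module.Finite ℂ (V S.X₂)] : tr S.X₂ = tr S.X₁ + tr S.X₃ := by
  haveI := hS.mono_f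
  haveI := hS.epi_g
  exact trace_add_of_exact (lmap S.f) (lmap S.g) (lmap_injective _) (lmap_surjective _)
    ((ShortComplex.ShortExact.moduleCat_exact_iff_function_exact S).mp hS.exact) _ _ _ (op_lmap _)
    (op_lmap _).symm

theorem tr_of_iso (e : M ≅ N) : tr M = tr N := by
  let l : V M ≃ₗ[ℂ] V N :=
    LinearEquiv.ofBijective (lmap e.hom) ⟨lmap_injective e.hom, lmap_surjective e.hom⟩
  have h : l.conj (op M) = op N := by
    refine LinearMap.ext fun x => ?_
    obtain ⟨y, rfl⟩ := l.surjective x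
    rw [LinearEquiv.conj_apply_apply, l.symm_apply_apply]
    exact (LinearMap.congr_fun (op_lmap e.hom) y).symm
  rw [tr, tr, ← h, LinearMap.trace_conj']

theorem tr_of_isZero (h : IsZero M) : tr M = 0 := by
  haveI : Subsingleton (V M) :=
    ModuleCat.subsingleton_of_isZero (M := M) h
  rw [tr, Subsingleton.elim (op M) 0, map_zero]

theorem norm_tr_le [Module.Finite ℂ (V M)] (C : ℝ) (D : ℕ) (hC : 0 ≤ C)
    (hμ : ∀ μ : ℂ, Module.End.HasEigenvalue (op M) μ → ‖μ‖ ≤ C)
    (hD : Module.finrank ℂ (V M) ≤ D) : ‖tr M‖ ≤ C * D := by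
  rw [tr, Module.End.trace_eq_sum_roots_charpoly_of_splits (IsAlgClosed.splits _)]
  have hbound : ∀ s : Multiset ℂ, (∀ x ∈ s, ‖x‖ ≤ C) → ‖s.sum‖ ≤ C * Multiset.card s := by
    intro s
    induction s using Multiset.induction_on with
    | empty => simp
    | cons x s ih =>
      intro h
      rw [Multiset.sum_cons, Multiset.card_cons, Nat.cast_add_one, mul_add, mul_one,
        add_comm (C * _)]
      exact (norm_add_le _ _).trans (add_le_add (h x (Multiset.mem_cons_self _ _))
        (ih fun y hy => h y (Multiset.mem_cons_of_mem hy)))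
  refine (hbound _ fun x hx => hμ x ?_).trans (mul_le_mul_of_nonneg_left ?_ hC)
  · rw [Module.End.hasEigenvalue_iff_isRoot_charpoly]
    exact (Polynomial.mem_roots'.mp hx).2
  · exact_mod_cast (Polynomial.card_roots' _).trans ((LinearMap.charpoly_natDegree _).trans_le hD)

end Groth.Agent.SpTraceLib
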